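import Groth.Agent.H2.CB.Equiv
import Groth.Agent.H24.PowerSeries
import Groth.Agent.Lib.Adic.Complete
import Groth.Agent.Lib.Adic.Transfer
import Mathlib.RingTheory.LocalRing.ResidueField.Basic
import Mathlib.RingTheory.MvPowerSeries.Inverse
import Mathlib.RingTheory.TensorProduct.Finite

/-!
# Completed base change of a complete local algebra along a field extension

If `A` is finite over `k[[X]]` then the completion of `A ⊗ₖ k'` is `A ⊗_{k[[X]]} k'[[X]]`.
-/

set_option autoImplicit false
set_option linter.style.haveILetI false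
set_option linter.unusedSectionVars false

universe u

open IsLocalRing TensorProduct

namespace Groth.Agent.H2.CB.Base

variable (k k' : Type u) [Field k] [Field k'] [Algebra k k'] (A : Type u) [CommRing A] [Algebra k A]
  (d : ℕ) [Algebra (MvPowerSeries (Fin d) k) A]

/-- The model of the completed base change. -/
abbrev Mdl : Type u := A ⊗[MvPowerSeries (Fin d) k] MvPowerSeries (Fin d) k'

/-- The constants of the model. -/
noncomputable def incl : k' →+* Mdl k k' A d :=
  (Algebra.TensorProduct.includeRight (R := MvPowerSeries (Fin d) k) (A := A)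
    (B := MvPowerSeries (Fin d) k')).toRingHom.comp (algebraMap k' (MvPowerSeries (Fin d) k'))

theorem incl_apply (c : k') :
    incl k k' A d c = (1 : A) ⊗ₜ[MvPowerSeries (Fin d) k] algebraMap k' (MvPowerSeries (Fin d) k') c := rfl

theorem algebraMap_ps_X (i : Fin d) :
    algebraMap (MvPowerSeries (Fin d) k) (MvPowerSeries (Fin d) k') (MvPowerSeries.X i) = MvPowerSeries.X i := by
  simp [MvPowerSeries.algebraMap_apply'']

theorem algebraMap_ps_const (c : k) :
    algebraMap (MvPowerSeries (Fin d) k) (MvPowerSeries (Fin d) k') (algebraMap k _ c) =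
      algebraMap k' (MvPowerSeries (Fin d) k') (algebraMap k k' c) := by
  simp [MvPowerSeries.algebraMap_apply'', MvPowerSeries.algebraMap_apply]

theorem X_tmul (i : Fin d) :
    (algebraMap (MvPowerSeries (Fin d) k) A (MvPowerSeries.X i)) ⊗ₜ[MvPowerSeries (Fin d) k]
        (1 : MvPowerSeries (Fin d) k') = (1 : A) ⊗ₜ[MvPowerSeries (Fin d) k] MvPowerSeries.X i := by
  rw [Algebra.algebraMap_eq_smul_one, TensorProduct.smul_tmul, ← Algebra.algebraMap_eq_smul_one,
    algebraMap_ps_X]

variable [IsScalarTower k (MvPowerSeries (Fin d) k) A]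

/-- The comparison map. -/
noncomputable def toMdl : A ⊗[k] k' →ₐ[A] Mdl k k' A d :=
  Algebra.TensorProduct.lift (Algebra.ofId A _)
    { incl k k' A d with
      commutes' := fun c => by
        show incl k k' A d (algebraMap k k' c) = algebraMap k _ c
        rw [incl_apply, ← algebraMap_ps_const k k' d c, Algebra.TensorProduct.algebraMap_apply,
          Algebra.algebraMap_eq_smul_one (R := MvPowerSeries (Fin d) k), ← TensorProduct.smul_tmul,
          ← Algebra.algebraMap_eq_smul_one, ← IsScalarTower.algebraMap_apply] }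
    fun _ _ => Commute.all _ _

theorem toMdl_tmul (a : A) (c : k') :
    toMdl k k' A d (a ⊗ₜ[k] c) =
      a ⊗ₜ[MvPowerSeries (Fin d) k] algebraMap k' (MvPowerSeries (Fin d) k') c := by
  rw [toMdl, Algebra.TensorProduct.lift_tmul]
  show algebraMap A (Mdl k k' A d) a * incl k k' A d c = _
  rw [incl_apply, Algebra.TensorProduct.algebraMap_apply, Algebra.TensorProduct.tmul_mul_tmul,
    Algebra.algebraMap_self_apply, mul_one, one_mul]

theorem toMdl_include (a : A) :
    toMdl k k' A d (a ⊗ₜ[k] 1) = algebraMap A (Mdl k k' A d) a := by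
  rw [toMdl_tmul, map_one]; rfl

variable [IsLocalRing A]

/-- The ideal of definition upstairs. -/
noncomputable abbrev idl : Ideal (A ⊗[k] k') :=
  (maximalIdeal A).map (Algebra.TensorProduct.includeLeft : A →ₐ[k] A ⊗[k] k')

theorem map_idl : (idl k k' A).map (toMdl k k' A d).toRingHom =
    (maximalIdeal A).map (algebraMap A (Mdl k k' A d)) := by
  rw [show idl k k' A = (maximalIdeal A).map
    (Algebra.TensorProduct.includeLeft : A →ₐ[k] A ⊗[k] k').toRingHom from rfl, Ideal.map_map]
  congr 1
  ext a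
  exact toMdl_include k k' A d a

variable [IsLocalHom (algebraMap (MvPowerSeries (Fin d) k) A)]

theorem bij_mod (n : ℕ) :
    (∀ z, toMdl k k' A d z ∈ ((idl k k' A).map (toMdl k k' A d).toRingHom) ^ n → z ∈ idl k k' A ^ n) ∧
      ∀ b, ∃ z, b - toMdl k k' A d z ∈ ((idl k k' A).map (toMdl k k' A d).toRingHom) ^ n := by
  classical
  let P := MvPowerSeries (Fin d) k
  let P' := MvPowerSeries (Fin d) k'
  let R := A ⊗[k] k'
  let I := idl k k' A
  let Q := R ⧸ I ^ n
  let K : Ideal (Mdl k k' A d) := I.map (toMdl k k' A d).toRingHom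
  let J : Ideal Q := I.map (Ideal.Quotient.mk (I ^ n))
  have hJn : J ^ n = ⊥ := (Ideal.map_pow _ _ _).symm.trans (Ideal.map_quotient_self _)
  haveI : IsAdicComplete J Q := H24.PowerSeries.isAdicComplete_of_pow_eq_bot J n hJn
  letI : Algebra k' R := Algebra.TensorProduct.rightAlgebra
  let x : Fin d → A := fun i => algebraMap P A (MvPowerSeries.X i)
  have hlocle : (maximalIdeal P).map (algebraMap P A) ≤ maximalIdeal A :=
    ((IsLocalRing.local_hom_TFAE (algebraMap P A)).out 0 2).1 ‹_›
  have hx : ∀ i, x i ∈ maximalIdeal A := fun i =>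
    hlocle (Ideal.mem_map_of_mem _ (H24.PowerSeries.X_mem k i))
  let ιA : A →+* Q := (Ideal.Quotient.mk (I ^ n)).comp
    (Algebra.TensorProduct.includeLeft : A →ₐ[k] R).toRingHom
  have hxJ : ∀ i, ιA (x i) ∈ J := fun i =>
    Ideal.mem_map_of_mem (Ideal.Quotient.mk (I ^ n)) (Ideal.mem_map_of_mem _ (hx i))
  obtain ⟨ψ, hψ⟩ := H24.PowerSeries.exists_hom (A := k') J (fun i => ιA (x i)) hxJ
  let g₁ : P →ₐ[k] Q :=
    { ψ.toRingHom.comp (algebraMap P P') with
      commutes' := fun c => by
        show ψ (algebraMap P P' (algebraMap k P c)) = algebraMap k Q c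
        rw [algebraMap_ps_const, ψ.commutes]
        show Ideal.Quotient.mk (I ^ n) ((1 : A) ⊗ₜ[k] algebraMap k k' c) =
          Ideal.Quotient.mk (I ^ n) (algebraMap k A c ⊗ₜ[k] 1)
        rw [Algebra.algebraMap_eq_smul_one (R := k) (A := k'), ← TensorProduct.smul_tmul,
          ← Algebra.algebraMap_eq_smul_one] }
  let g₂ : P →ₐ[k] Q :=
    { ιA.comp (algebraMap P A) with
      commutes' := fun c => by
        show ιA (algebraMap P A (algebraMap k P c)) = _
        rw [← IsScalarTower.algebraMap_apply]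
        rfl }
  have hg : g₁ = g₂ := by
    refine H24.PowerSeries.hom_ext (A := k) J (fun i => ?_) fun i => ?_
    · show ψ (algebraMap P P' (MvPowerSeries.X i)) ∈ J
      rw [algebraMap_ps_X, hψ]; exact hxJ i
    · show ψ (algebraMap P P' (MvPowerSeries.X i)) = ιA (x i)
      rw [algebraMap_ps_X, hψ]
  let fA : A →ₐ[P] Q := { ιA with commutes' := fun _ => rfl }
  let fP : P' →ₐ[P] Q := { ψ.toRingHom with commutes' := fun r => AlgHom.congr_fun hg r }
  let χ : Mdl k k' A d →+* Q := (Algebra.TensorProduct.lift fA fP fun _ _ => Commute.all _ _).toRingHom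
  have hχ : ∀ a f, χ (a ⊗ₜ[P] f) = ιA a * ψ f := fun a f => Algebra.TensorProduct.lift_tmul _ _ _ a f
  have hid : ∀ z : R, χ (toMdl k k' A d z) = Ideal.Quotient.mk (I ^ n) z := by
    intro z
    induction z using TensorProduct.induction_on with
    | zero => simp only [map_zero]
    | add a b ha hb => simp only [map_add, ha, hb]
    | tmul a c =>
      rw [toMdl_tmul, hχ, ψ.commutes]
      show Ideal.Quotient.mk (I ^ n) (a ⊗ₜ[k] 1) * Ideal.Quotient.mk (I ^ n) ((1 : A) ⊗ₜ[k] c) = _
      rw [← map_mul, Algebra.TensorProduct.tmul_mul_tmul, mul_one, one_mul]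
  constructor
  · intro z hz
    have h1 : (K ^ n).map χ ≤ ⊥ := by
      rw [Ideal.map_pow, ← hJn]
      refine Ideal.pow_right_mono ?_ n
      rw [show K = _ from map_idl k k' A d, Ideal.map_map, Ideal.map_le_iff_le_comap]
      intro a ha
      rw [Ideal.mem_comap, RingHom.comp_apply, Algebra.TensorProduct.algebraMap_apply, hχ, map_one,
        mul_one]
      exact Ideal.mem_map_of_mem (Ideal.Quotient.mk (I ^ n)) (Ideal.mem_map_of_mem _ ha)
    have h2 : χ (toMdl k k' A d z) = 0 := by simpa using h1 (Ideal.mem_map_of_mem χ hz)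
    rw [hid] at h2
    exact Ideal.Quotient.eq_zero_iff_mem.1 h2
  · intro b
    letI : CommRing (Mdl k k' A d ⧸ K ^ n) := inferInstance
    let S := Mdl k k' A d ⧸ K ^ n
    have hle : I ^ n ≤ (K ^ n).comap (toMdl k k' A d).toRingHom := by
      rw [← Ideal.map_le_iff_le_comap, Ideal.map_pow]
    let q : Q →+* S := Ideal.quotientMap (K ^ n) (toMdl k k' A d).toRingHom hle
    letI : Algebra k' (Mdl k k' A d ⧸ K ^ n) := RingHom.toAlgebra' ((Ideal.Quotient.mk (K ^ n)).comp (incl k k' A d)) fun c y => by
      obtain ⟨z, rfl⟩ := Ideal.Quotient.mk_surjective y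
      rw [RingHom.comp_apply, ← map_mul, ← map_mul, mul_comm]
    let JS : Ideal S := K.map (Ideal.Quotient.mk (K ^ n))
    haveI : IsAdicComplete JS S :=
      H24.PowerSeries.isAdicComplete_of_pow_eq_bot JS n ((Ideal.map_pow _ _ _).symm.trans (Ideal.map_quotient_self _))
    let h₁ : P' →ₐ[k'] S :=
      { (Ideal.Quotient.mk (K ^ n)).comp (Algebra.TensorProduct.includeRight (R := P) (A := A) (B := P')).toRingHom with
        commutes' := fun c => rfl }
    let h₂ : P' →ₐ[k'] S :=
      { q.comp ψ.toRingHom with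
        commutes' := fun c => by
          show q (ψ (algebraMap k' P' c)) = _
          rw [ψ.commutes]
          show Ideal.Quotient.mk (K ^ n) (toMdl k k' A d ((1 : A) ⊗ₜ[k] c)) = _
          rw [toMdl_tmul]
          rfl }
    have hh : h₁ = h₂ := by
      have key : ∀ i, h₂ (MvPowerSeries.X i) = Ideal.Quotient.mk (K ^ n) ((1 : A) ⊗ₜ[P] MvPowerSeries.X i) := by
        intro i
        show q (ψ (MvPowerSeries.X i)) = _
        rw [hψ]
        show Ideal.Quotient.mk (K ^ n) (toMdl k k' A d (x i ⊗ₜ[k] 1)) = _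
        rw [toMdl_tmul, map_one, X_tmul]
      refine H24.PowerSeries.hom_ext (A := k') JS (fun i => ?_) fun i => (key i).symm
      refine Ideal.mem_map_of_mem (Ideal.Quotient.mk (K ^ n)) ?_
      show (1 : A) ⊗ₜ[P] MvPowerSeries.X i ∈ K
      rw [← X_tmul, show K = _ from map_idl k k' A d]
      exact Ideal.mem_map_of_mem _ (hx i)
    have key : ∀ b, q (χ b) = Ideal.Quotient.mk (K ^ n) b := by
      intro b
      induction b using TensorProduct.induction_on with
      | zero => simp only [map_zero]
      | add a b ha hb => simp only [map_add, ha, hb]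
      | tmul a f =>
        rw [hχ, map_mul, show q (ψ f) = _ from (AlgHom.congr_fun hh f).symm]
        show Ideal.Quotient.mk (K ^ n) (toMdl k k' A d (a ⊗ₜ[k] 1)) *
          Ideal.Quotient.mk (K ^ n) ((1 : A) ⊗ₜ[P] f) = _
        rw [toMdl_tmul, map_one, ← map_mul, Algebra.TensorProduct.tmul_mul_tmul, mul_one, one_mul]
    obtain ⟨z, hz⟩ := Ideal.Quotient.mk_surjective (χ b)
    refine ⟨z, Ideal.Quotient.eq.1 ?_⟩
    rw [← key b, ← hz]
    exact Ideal.quotientMap_mk

variable [IsNoetherianRing A] [Module.Finite (MvPowerSeries (Fin d) k) A]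

theorem finite : letI : Algebra (MvPowerSeries (Fin d) k') (Mdl k k' A d) := Algebra.TensorProduct.rightAlgebra
    Module.Finite (MvPowerSeries (Fin d) k') (Mdl k k' A d) := by
  letI : Algebra (MvPowerSeries (Fin d) k') (Mdl k k' A d) := Algebra.TensorProduct.rightAlgebra
  exact Module.Finite.equiv
    (Algebra.IsPushout.equiv (MvPowerSeries (Fin d) k) (MvPowerSeries (Fin d) k') A (Mdl k k' A d)).toLinearEquiv

theorem isNoetherianRing : IsNoetherianRing (Mdl k k' A d) := by
  haveI := H24.PowerSeries.isRegularLocalRing_fin k' d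
  letI : Algebra (MvPowerSeries (Fin d) k') (Mdl k k' A d) := Algebra.TensorProduct.rightAlgebra
  haveI := finite k k' A d
  exact IsNoetherianRing.of_finite (MvPowerSeries (Fin d) k') (Mdl k k' A d)

theorem isAdicComplete : IsAdicComplete ((idl k k' A).map (toMdl k k' A d).toRingHom) (Mdl k k' A d) := by
  let P := MvPowerSeries (Fin d) k
  let P' := MvPowerSeries (Fin d) k'
  haveI := H24.PowerSeries.isRegularLocalRing_fin k' d
  letI : Algebra P' (Mdl k k' A d) := Algebra.TensorProduct.rightAlgebra
  haveI := finite k k' A d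
  let J : Ideal P' := maximalIdeal P'
  haveI : IsAdicComplete J P' := H24.PowerSeries.isAdicComplete k' (Fin d)
  haveI : IsAdicComplete J (Mdl k k' A d) := Lib.Adic.Complete.isAdicComplete_of_finite
  haveI hJ : IsAdicComplete (J.map (algebraMap P' (Mdl k k' A d))) (Mdl k k' A d) :=
    (IsAdicComplete.map_algebraMap_iff _ _).2 ‹_›
  have hJeq : J.map (algebraMap P' (Mdl k k' A d)) =
      (Ideal.span (Set.range fun i => algebraMap P A (MvPowerSeries.X i))).map (algebraMap A (Mdl k k' A d)) := by
    rw [show J = _ from H24.PowerSeries.maximalIdeal_eq k' (Fin d), Ideal.map_span, Ideal.map_span,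
      ← Set.range_comp, ← Set.range_comp]
    congr 2
    funext i
    exact (X_tmul k k' A d i).symm
  obtain ⟨N, hN⟩ : ∃ N, maximalIdeal A ^ N ≤ Ideal.span (Set.range fun i => algebraMap P A (MvPowerSeries.X i)) := by
    refine Ideal.exists_pow_le_of_le_radical_of_fg ?_ (IsNoetherian.noetherian _)
    rw [Ideal.radical_eq_sInf]
    refine le_sInf fun Q hQ => ?_
    haveI := hQ.2
    have hQP : (maximalIdeal P) ≤ Q.comap (algebraMap P A) := by
      rw [H24.PowerSeries.maximalIdeal_eq k (Fin d), Ideal.span_le]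
      rintro _ ⟨i, rfl⟩
      exact hQ.1 (Ideal.subset_span ⟨i, rfl⟩)
    have h1 : (Q.comap (algebraMap P A)).IsMaximal := by
      have := (IsLocalRing.maximalIdeal.isMaximal P).eq_of_le (Ideal.IsPrime.ne_top inferInstance) hQP
      rw [← this]; exact IsLocalRing.maximalIdeal.isMaximal P
    exact (IsLocalRing.eq_maximalIdeal (Ideal.isMaximal_of_isIntegral_of_isMaximal_comap Q h1)).ge
  rw [map_idl]
  refine Lib.Adic.Transfer.isAdicComplete_of_le (I := J.map (algebraMap P' (Mdl k k' A d))) (N := N) ?_ ?_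
  · rw [hJeq]
    refine Ideal.map_mono (Ideal.span_le.2 ?_)
    rintro _ ⟨i, rfl⟩
    have hlocle : (maximalIdeal P).map (algebraMap P A) ≤ maximalIdeal A :=
      ((IsLocalRing.local_hom_TFAE (algebraMap P A)).out 0 2).1 ‹_›
    exact hlocle (Ideal.mem_map_of_mem _ (H24.PowerSeries.X_mem k i))
  · rw [hJeq, ← Ideal.map_pow]
    exact Ideal.map_mono hN

/-- The completed base change is the model. -/
theorem exists_equiv : ∃ e : AdicCompletion (idl k k' A) (A ⊗[k] k') ≃+* Mdl k k' A d,
    ∀ z, e (AdicCompletion.of (idl k k' A) (A ⊗[k] k') z) = toMdl k k' A d z :=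
  haveI := isAdicComplete k k' A d
  Equiv.exists_equiv (idl k k' A) (toMdl k k' A d).toRingHom (fun n => (bij_mod k k' A d n).1)
    (fun n => (bij_mod k k' A d n).2)

end Groth.Agent.H2.CB.Base
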