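import Groth.Agent.H2.CB.Regular
import Groth.Agent.Lib.Dim.Integral
import Mathlib.LinearAlgebra.TensorProduct.RightExactness

/-!
# Functoriality and independence of the presentation of the completed base change
-/

set_option autoImplicit false
set_option linter.style.haveILetI false
set_option linter.unusedSectionVars false

universe u

open IsLocalRing TensorProduct

namespace Groth.Agent.H2.CB.Compare

open Base

variable (k k' : Type u) [Field k] [Field k'] [Algebra k k'] (A : Type u) [CommRing A] [Algebra k A]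
  (d : ℕ) [Algebra (MvPowerSeries (Fin d) k) A]

/-- The projection to the model of a quotient. -/
noncomputable def proj (I : Ideal A) : Mdl k k' A d →+* Mdl k k' (A ⧸ I) d :=
  (Algebra.TensorProduct.map (Ideal.Quotient.mkₐ (MvPowerSeries (Fin d) k) I)
    (AlgHom.id (MvPowerSeries (Fin d) k) (MvPowerSeries (Fin d) k'))).toRingHom

theorem proj_algebraMap (I : Ideal A) (a : A) :
    proj k k' A d I (algebraMap A (Mdl k k' A d) a) =
      algebraMap (A ⧸ I) (Mdl k k' (A ⧸ I) d) (Ideal.Quotient.mk I a) := by
  show (Algebra.TensorProduct.map _ _) (a ⊗ₜ[MvPowerSeries (Fin d) k] 1) = _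
  rw [Algebra.TensorProduct.map_tmul]; rfl

theorem proj_surjective (I : Ideal A) : Function.Surjective (proj k k' A d I) := by
  intro y
  induction y using TensorProduct.induction_on with
  | zero => exact ⟨0, map_zero _⟩
  | add a b ha hb =>
    obtain ⟨x, rfl⟩ := ha; obtain ⟨z, rfl⟩ := hb; exact ⟨x + z, map_add _ _ _⟩
  | tmul a f =>
    obtain ⟨a, rfl⟩ := Ideal.Quotient.mk_surjective a
    exact ⟨a ⊗ₜ f, Algebra.TensorProduct.map_tmul _ _ a f⟩

theorem ker_proj (I : Ideal A) :
    RingHom.ker (proj k k' A d I) = I.map (algebraMap A (Mdl k k' A d)) := by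
  have h := Algebra.TensorProduct.rTensor_ker (R := MvPowerSeries (Fin d) k)
    (C := MvPowerSeries (Fin d) k') (f := Ideal.Quotient.mkₐ (MvPowerSeries (Fin d) k) I)
    Ideal.Quotient.mk_surjective
  rw [show RingHom.ker (Ideal.Quotient.mkₐ (MvPowerSeries (Fin d) k) I) = I from Ideal.mk_ker] at h
  exact h

section Two

variable [IsScalarTower k (MvPowerSeries (Fin d) k) A] [IsLocalRing A] [IsNoetherianRing A]
  [Module.Finite (MvPowerSeries (Fin d) k) A] [IsLocalHom (algebraMap (MvPowerSeries (Fin d) k) A)]
  (n : ℕ) [Algebra (MvPowerSeries (Fin n) k) A] [IsScalarTower k (MvPowerSeries (Fin n) k) A]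
  [Module.Finite (MvPowerSeries (Fin n) k) A] [IsLocalHom (algebraMap (MvPowerSeries (Fin n) k) A)]

/-- The model does not depend on the presentation. -/
theorem exists_equiv : ∃ e : Mdl k k' A d ≃+* Mdl k k' A n,
    ∀ a, e (algebraMap A (Mdl k k' A d) a) = algebraMap A (Mdl k k' A n) a := by
  obtain ⟨e₁, h₁⟩ := Base.exists_equiv k k' A d
  obtain ⟨e₂, h₂⟩ := Base.exists_equiv k k' A n
  refine ⟨e₁.symm.trans e₂, fun a => ?_⟩
  rw [← toMdl_include k k' A d a, RingEquiv.trans_apply, ← h₁, RingEquiv.symm_apply_apply, h₂, toMdl_include]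

theorem ringKrullDim_le : ringKrullDim (Mdl k k' A d) ≤ n := by
  obtain ⟨e, -⟩ := exists_equiv k k' A d n
  rw [ringKrullDim_eq_of_ringEquiv e]
  letI : Algebra (MvPowerSeries (Fin n) k') (Mdl k k' A n) := Algebra.TensorProduct.rightAlgebra
  haveI := Base.finite k k' A n
  exact Lib.Dim.Integral.ringKrullDim_le_of_isIntegral.trans (H24.PowerSeries.ringKrullDim_eq k' n).le

/-- Regular points over an étale locus of another presentation. -/
theorem regular_of_etale (Q : Ideal (Mdl k k' A d)) [Q.IsPrime] (f : A)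
    (hf : algebraMap A (Mdl k k' A d) f ∉ Q)
    [Algebra.Etale (MvPowerSeries (Fin n) k) (Localization.Away f)] :
    IsRegularLocalRing (Localization.AtPrime Q) := by
  obtain ⟨e, he⟩ := exists_equiv k k' A d n
  let Q' := Q.comap e.symm.toRingHom
  have hQ : Q'.comap e.toRingHom = Q := by ext z; simp [Q']
  have hreg := Regular.of_etale k k' A n Q' f (fun h => hf (by rw [← hQ, Ideal.mem_comap]; show e _ ∈ Q'; rw [he]; exact h))
  haveI := hreg
  exact IsRegularLocalRing.of_ringEquiv (R := Localization.AtPrime Q')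
    (Localization.localRingEquiv Q Q' e hQ.symm).symm

end Two

end Groth.Agent.H2.CB.Compare
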