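import Groth.Agent.H2.CB.Base
import Groth.Agent.H2.Omega.Tools
import Groth.Agent.H2.Omega.Basic
import Mathlib.RingTheory.MvPowerSeries.Derivative
import Mathlib.LinearAlgebra.TensorProduct.Tower

/-!
# The fibre rank of differentials does not drop under completed base change
-/

set_option autoImplicit false
set_option linter.style.haveILetI false
set_option linter.unusedSectionVars false

universe u

open IsLocalRing TensorProduct

namespace Groth.Agent.H2.CB.Deriv

open Base Groth.Agent.H2.Omega

/-- A derivation of a power series ring along a map to a local ring, killing the variables. -/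
theorem eq_zero {k : Type u} [Field k] {d : ℕ} {L : Type u} [CommRing L] [IsLocalRing L] [IsNoetherianRing L]
    {M : Type u} [AddCommGroup M] [Module L M] [Module.Finite L M]
    (σ : MvPowerSeries (Fin d) k →+* L) (hσ : ∀ i, σ (MvPowerSeries.X i) ∈ maximalIdeal L)
    (δ : MvPowerSeries (Fin d) k →+ M) (hmul : ∀ f g, δ (f * g) = σ f • δ g + σ g • δ f)
    (hc : ∀ c : k, δ (algebraMap k _ c) = 0) (hX : ∀ i, δ (MvPowerSeries.X i) = 0)
    (f : MvPowerSeries (Fin d) k) : δ f = 0 := by
  let P := MvPowerSeries (Fin d) k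
  have hcst : ∀ y : P, y - algebraMap k P (MvPowerSeries.constantCoeff y) ∈ maximalIdeal P := fun y => by
    rw [IsLocalRing.mem_maximalIdeal, mem_nonunits_iff, MvPowerSeries.isUnit_iff_constantCoeff]
    simp [P, MvPowerSeries.algebraMap_apply]
  have key : ∀ m (g : P), δ g ∈ (maximalIdeal L ^ m • ⊤ : Submodule L M) := by
    intro m
    induction m with
    | zero => intro g; rw [pow_zero, Ideal.one_eq_top, Submodule.top_smul]; trivial
    | succ m ih =>
      intro g
      have hg : g - algebraMap k P (MvPowerSeries.constantCoeff g) ∈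
          Ideal.span (Set.range (MvPowerSeries.X : Fin d → P)) :=
        (H24.PowerSeries.maximalIdeal_eq k (Fin d)).le (hcst g)
      obtain ⟨c, hc'⟩ := Ideal.mem_span_range_iff_exists_fun.1 hg
      have e : δ g = ∑ i, σ (MvPowerSeries.X i) • δ (c i) := by
        have h0 : δ g = δ (g - algebraMap k P (MvPowerSeries.constantCoeff g)) := by
          rw [map_sub, hc, sub_zero]
        rw [h0, ← hc', map_sum]
        refine Finset.sum_congr rfl fun i _ => ?_
        rw [hmul, hX, smul_zero, zero_add]
      rw [e]
      refine Submodule.sum_mem _ fun i _ => ?_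
      rw [pow_succ', mul_smul]
      exact Submodule.smul_mem_smul (hσ i) (ih _)
  exact IsHausdorff.haus (I := maximalIdeal L)
    (IsHausdorff.of_le_jacobson (maximalIdeal L) M (IsLocalRing.maximalIdeal_le_jacobson ⊥)) _
      fun m => SModEq.zero.2 (key m f)

variable (k k' : Type u) [Field k] [Field k'] [Algebra k k'] (A : Type u) [CommRing A] [Algebra k A]
  [IsLocalRing A] [IsNoetherianRing A] [IsAdicComplete (maximalIdeal A) A] [Module.Finite k (ResidueField A)]
  (d : ℕ) [Algebra (MvPowerSeries (Fin d) k) A] [IsScalarTower k (MvPowerSeries (Fin d) k) A]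
  [IsLocalHom (algebraMap (MvPowerSeries (Fin d) k) A)]

set_option maxHeartbeats 1000000 in
theorem finrank_le {L : Type u} [CommRing L] [IsLocalRing L] [IsNoetherianRing L] [Algebra k' L]
    [IsAdicComplete (maximalIdeal L) L] [Module.Finite k' (ResidueField L)] [Algebra A L]
    (ρ : Mdl k k' A d →+* L) (hρ : Function.Surjective ρ)
    (hA : ∀ a, ρ (algebraMap A (Mdl k k' A d) a) = algebraMap A L a)
    (hk : ∀ c, ρ (incl k k' A d c) = algebraMap k' L c)
    (hlocal : ∀ a ∈ maximalIdeal A, algebraMap A L a ∈ maximalIdeal L)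
    (PL : Ideal L) [PL.IsPrime] (p : Ideal A) [p.IsPrime] (hp : PL.comap (algebraMap A L) = p)
    (hker : ∀ b, ρ b = 0 → ∃ t, ρ t ∉ PL ∧ t * b = 0) :
    Module.finrank p.ResidueField (p.ResidueField ⊗[A] Basic.Om k A) ≤
      Module.finrank PL.ResidueField (PL.ResidueField ⊗[L] Basic.Om k' L) := by
  classical
  let P := MvPowerSeries (Fin d) k
  let P' := MvPowerSeries (Fin d) k'
  haveI := Basic.finite k A
  haveI := Basic.finite k' L
  let M := L ⊗[A] Basic.Om k A
  let dA : A →+ M :=
    (TensorProduct.mk A L (Basic.Om k A) 1).toAddMonoidHom.comp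
      { toFun := Basic.dh k A
        map_zero' := by rw [← map_zero (algebraMap k A), Basic.dh_algebraMap]
        map_add' := Basic.dh_add }
  have hdA : ∀ a, dA a = (1 : L) ⊗ₜ[A] Basic.dh k A a := fun a => rfl
  have hdA_mul : ∀ a b, dA (a * b) = algebraMap A L a • dA b + algebraMap A L b • dA a := fun a b => by
    rw [hdA, hdA, hdA, Basic.dh_mul, TensorProduct.tmul_add, TensorProduct.tmul_smul,
      TensorProduct.tmul_smul, ← algebraMap_smul L a, ← algebraMap_smul L b]
  let σ' : P' →+* L := ρ.comp
    (Algebra.TensorProduct.includeRight (R := P) (A := A) (B := P')).toRingHom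
  let σ : P →+* L := (algebraMap A L).comp (algebraMap P A)
  have hσσ' : ∀ r : P, σ' (algebraMap P P' r) = σ r := fun r => by
    show ρ ((1 : A) ⊗ₜ[P] algebraMap P P' r) = algebraMap A L (algebraMap P A r)
    rw [← hA, Algebra.algebraMap_eq_smul_one (R := P) (A := P'), ← TensorProduct.smul_tmul,
      ← Algebra.algebraMap_eq_smul_one]
    rfl
  let x : Fin d → A := fun i => algebraMap P A (MvPowerSeries.X i)
  let D' : P' →+ M := ∑ i,
    { toFun := fun f => σ' (MvPowerSeries.pderiv k' i f) • dA (x i)
      map_zero' := by rw [map_zero, map_zero, zero_smul]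
      map_add' := fun f g => by rw [map_add, map_add, add_smul] }
  have hD' : ∀ f, D' f = ∑ i, σ' (MvPowerSeries.pderiv k' i f) • dA (x i) := fun f => by
    simp [D', AddMonoidHom.finset_sum_apply]
  have hD'_mul : ∀ f g, D' (f * g) = σ' f • D' g + σ' g • D' f := fun f g => by
    rw [hD', hD', hD', Finset.smul_sum, Finset.smul_sum, ← Finset.sum_add_distrib]
    refine Finset.sum_congr rfl fun i _ => ?_
    rw [Derivation.leibniz, smul_eq_mul, smul_eq_mul, map_add, map_mul, map_mul, add_smul, mul_smul, mul_smul]
  have hD'X : ∀ j, D' (MvPowerSeries.X j) = dA (x j) := fun j => by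
    rw [hD', Finset.sum_eq_single j]
    · rw [MvPowerSeries.pderiv_X_self, map_one, one_smul]
    · intro i _ hij
      rw [MvPowerSeries.pderiv_X_of_ne (Ne.symm hij), map_zero, zero_smul]
    · intro h; exact absurd (Finset.mem_univ j) h
  have hcompat : ∀ r : P, D' (algebraMap P P' r) = dA (algebraMap P A r) := by
    intro r
    have hlocle : (maximalIdeal P).map (algebraMap P A) ≤ maximalIdeal A :=
      ((IsLocalRing.local_hom_TFAE (algebraMap P A)).out 0 2).1 ‹_›
    let δ : P →+ M := D'.comp (algebraMap P P').toAddMonoidHom - dA.comp (algebraMap P A).toAddMonoidHom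
    refine sub_eq_zero.1 (eq_zero σ (fun i => hlocal _ (hlocle (Ideal.mem_map_of_mem _ (H24.PowerSeries.X_mem k i))))
      δ (fun f g => ?_) (fun c => ?_) (fun i => ?_) r)
    · show D' (algebraMap P P' (f * g)) - dA (algebraMap P A (f * g)) =
        σ f • (D' (algebraMap P P' g) - dA (algebraMap P A g)) + σ g • (D' (algebraMap P P' f) - dA (algebraMap P A f))
      rw [map_mul (algebraMap P P') f g, map_mul (algebraMap P A) f g, hD'_mul, hdA_mul, hσσ', hσσ', smul_sub, smul_sub]
      show _ = σ f • D' _ - σ f • dA _ + (σ g • D' _ - σ g • dA _)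
      simp only [σ, RingHom.comp_apply]
      abel
    · show D' (algebraMap P P' (algebraMap k P c)) - dA (algebraMap P A (algebraMap k P c)) = 0
      rw [← IsScalarTower.algebraMap_apply k P A, algebraMap_ps_const, hdA, Basic.dh_algebraMap,
        TensorProduct.tmul_zero, sub_zero, hD']
      refine Finset.sum_eq_zero fun i _ => ?_
      rw [Derivation.map_algebraMap, map_zero, zero_smul]
    · show D' (algebraMap P P' (MvPowerSeries.X i)) - dA (x i) = 0
      rw [algebraMap_ps_X, hD'X, sub_self]
  let bil : A →+ P' →+ M :=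
    { toFun := fun a =>
        { toFun := fun f => σ' f • dA a + algebraMap A L a • D' f
          map_zero' := by rw [map_zero, map_zero, zero_smul, smul_zero, add_zero]
          map_add' := fun f g => by rw [map_add, map_add, add_smul, smul_add]; abel }
      map_zero' := by ext f; simp
      map_add' := fun a b => by
        ext f
        simp only [map_add, smul_add, add_smul, AddMonoidHom.coe_mk, ZeroHom.coe_mk, AddMonoidHom.add_apply]
        abel }
  let D : Mdl k k' A d →+ M := TensorProduct.liftAddHom bil fun r a f => by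
    show σ' f • dA (r • a) + algebraMap A L (r • a) • D' f = σ' (r • f) • dA a + algebraMap A L a • D' (r • f)
    rw [Algebra.smul_def, Algebra.smul_def, hdA_mul, hD'_mul, hcompat, map_mul, map_mul, hσσ']
    show _ = (σ r * σ' f) • dA a + _
    simp only [σ, RingHom.comp_apply, smul_add, smul_smul, mul_comm, mul_left_comm]
    abel
  have hD : ∀ a f, D (a ⊗ₜ[P] f) = σ' f • dA a + algebraMap A L a • D' f := fun a f => rfl
  have hρt : ∀ a f, ρ (a ⊗ₜ[P] f) = algebraMap A L a * σ' f := fun a f => by
    show _ = _ * ρ ((1 : A) ⊗ₜ[P] f)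
    rw [← hA, ← map_mul, Algebra.TensorProduct.algebraMap_apply, Algebra.TensorProduct.tmul_mul_tmul,
      Algebra.algebraMap_self_apply, mul_one, one_mul]
  have hD_mul : ∀ b c, D (b * c) = ρ b • D c + ρ c • D b := by
    intro b c
    induction b using TensorProduct.induction_on with
    | zero => simp
    | add b₁ b₂ h₁ h₂ => rw [add_mul, map_add, h₁, h₂, map_add, map_add, add_smul, smul_add]; abel
    | tmul a f =>
      induction c using TensorProduct.induction_on with
      | zero => simp
      | add c₁ c₂ h₁ h₂ => rw [mul_add, map_add, h₁, h₂, map_add, map_add, add_smul, smul_add]; abel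
      | tmul a' f' =>
        rw [Algebra.TensorProduct.tmul_mul_tmul, hD, hD, hD, hρt, hρt, hdA_mul, hD'_mul, map_mul σ', map_mul (algebraMap A L)]
        simp only [smul_add, smul_smul]
        module
  -- the fibre
  let K := PL.ResidueField
  let F := K ⊗[A] Basic.Om k A
  let Φ : M →ₗ[L] F :=
    TensorProduct.AlgebraTensorModule.map (IsScalarTower.toAlgHom L L K).toLinearMap (LinearMap.id)
  have hΦ : ∀ b, ρ b = 0 → Φ (D b) = 0 := by
    intro b hb
    obtain ⟨t, ht, htb⟩ := hker b hb
    have h := hD_mul t b
    rw [htb, map_zero, hb, zero_smul, add_zero] at h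
    have h2 := congrArg Φ h.symm
    rw [map_zero, map_smul, ← algebraMap_smul K (ρ t)] at h2
    exact (smul_eq_zero.1 h2).resolve_left (by rwa [Ideal.algebraMap_residueField_eq_zero])
  let W : Submodule L M := Submodule.span L (D '' {b | ρ b = 0})
  have hWΦ : W ≤ LinearMap.ker Φ := Submodule.span_le.2 (by rintro _ ⟨b, hb, rfl⟩; exact hΦ b hb)
  let Φ' : (M ⧸ W) →ₗ[L] F := W.liftQ Φ hWΦ
  choose lift hlift using hρ
  have hq : ∀ b, W.mkQ (D (lift (ρ b))) = W.mkQ (D b) := fun b => by
    rw [← sub_eq_zero, ← map_sub, ← map_sub, Submodule.mkQ_apply, Submodule.Quotient.mk_eq_zero]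
    exact Submodule.subset_span ⟨_, by simp [hlift], rfl⟩
  haveI : IsScalarTower k' L (M ⧸ W) := inferInstance
  let δL : Derivation k' L (M ⧸ W) :=
    { toFun := fun l => W.mkQ (D (lift l))
      map_add' := fun l₁ l₂ => by
        obtain ⟨b, rfl⟩ := (⟨lift l₁, hlift l₁⟩ : ∃ b, ρ b = l₁)
        obtain ⟨c, rfl⟩ := (⟨lift l₂, hlift l₂⟩ : ∃ c, ρ c = l₂)
        rw [← map_add ρ, hq, hq, hq, map_add, map_add]
      map_smul' := fun c l => by
        obtain ⟨b, rfl⟩ := (⟨lift l, hlift l⟩ : ∃ b, ρ b = l)
        rw [Algebra.smul_def, ← hk, ← map_mul, hq, hq, hD_mul, hk, map_add, map_smul, map_smul,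
          algebraMap_smul, RingHom.id_apply]
        have h0 : D (incl k k' A d c) = 0 := by
          rw [incl_apply, hD, hdA, ← map_one (algebraMap k A), Basic.dh_algebraMap, TensorProduct.tmul_zero,
            smul_zero, zero_add, hD']
          simp [Derivation.map_algebraMap]
        rw [h0, map_zero, smul_zero, add_zero]
      map_one_eq_zero' := by
        show W.mkQ (D (lift 1)) = 0
        rw [← map_one ρ, hq]
        have := hD_mul 1 1
        rw [mul_one, map_one ρ, one_smul] at this
        rw [show D 1 = 0 from add_left_cancel (a := D 1) (by rw [add_zero]; exact this.symm), map_zero]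
      leibniz' := fun l₁ l₂ => by
        obtain ⟨b, rfl⟩ := (⟨lift l₁, hlift l₁⟩ : ∃ b, ρ b = l₁)
        obtain ⟨c, rfl⟩ := (⟨lift l₂, hlift l₂⟩ : ∃ c, ρ c = l₂)
        show W.mkQ (D (lift _)) = _ • W.mkQ (D (lift _)) + _ • W.mkQ (D (lift _))
        rw [← map_mul, hq, hq, hq, hD_mul, map_add, map_smul, map_smul] }
  haveI : Module.Finite L M := inferInstance
  obtain ⟨f, hf⟩ := Basic.exists_lift k' L δL
  obtain ⟨s, hs⟩ := Tools.exists_genAt (M := Basic.Om k' L) PL
  let v := fun i => Φ' (f (s i))
  let V := Submodule.span K (Set.range v)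
  have hV : ∀ a, (1 : K) ⊗ₜ[A] Basic.dh k A a ∈ V := by
    intro a
    obtain ⟨t, ht, hmem⟩ := hs (Basic.dh k' L (algebraMap A L a))
    have h1 : Φ' (f (t • Basic.dh k' L (algebraMap A L a))) ∈ V.restrictScalars L := by
      refine (Submodule.span_le.2 ?_ : Submodule.span L (Set.range s) ≤
        (V.restrictScalars L).comap (Φ' ∘ₗ f)) hmem
      rintro _ ⟨i, rfl⟩
      exact Submodule.subset_span ⟨i, rfl⟩
    rw [map_smul, map_smul, hf] at h1
    have h2 : Φ' (δL (algebraMap A L a)) = (1 : K) ⊗ₜ[A] Basic.dh k A a := by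
      show Φ' (W.mkQ (D (lift _))) = _
      rw [← hA, hq, Submodule.mkQ_apply]
      show Φ (D (a ⊗ₜ[P] (1 : P'))) = _
      rw [hD, map_one, one_smul, hD']
      simp only [Derivation.map_one_eq_zero, map_zero, zero_smul, Finset.sum_const_zero, smul_zero, add_zero]
      rw [hdA]
      show (IsScalarTower.toAlgHom L L K) 1 ⊗ₜ[A] Basic.dh k A a = _
      rw [map_one]
    rw [h2, Submodule.restrictScalars_mem, ← algebraMap_smul K t] at h1
    exact (V.smul_mem_iff (by rwa [ne_eq, Ideal.algebraMap_residueField_eq_zero])).1 h1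
  have htop : V = ⊤ := by
    rw [eq_top_iff]
    rintro z -
    induction z using TensorProduct.induction_on with
    | zero => exact zero_mem _
    | add b c hb hc => exact add_mem hb hc
    | tmul r y =>
      have h1 : (1 : K) ⊗ₜ[A] y ∈ V := by
        have hy : y ∈ Submodule.span A (Set.range (Basic.dh k A)) := by rw [Basic.span_range_dh]; trivial
        induction hy using Submodule.span_induction with
        | mem w hw => obtain ⟨b, rfl⟩ := hw; exact hV b
        | zero => rw [TensorProduct.tmul_zero]; exact zero_mem _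
        | add b c _ _ hb hc => rw [TensorProduct.tmul_add]; exact add_mem hb hc
        | smul e w _ hw => rw [TensorProduct.tmul_smul, ← algebraMap_smul K e]; exact V.smul_mem _ hw
      rw [show r ⊗ₜ[A] y = r • ((1 : K) ⊗ₜ[A] y) by rw [TensorProduct.smul_tmul', smul_eq_mul, mul_one]]
      exact V.smul_mem _ h1
  have e := finrank_range_le_card (R := K) v
  rw [Set.finrank, show Submodule.span K (Set.range v) = ⊤ from htop, finrank_top, Fintype.card_fin] at e
  refine le_trans (le_of_eq ?_) e
  let ψ : p.ResidueField →ₐ[A] K := Ideal.ResidueField.liftₐ p (Algebra.ofId A K)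
    (fun a ha => by
      rw [RingHom.mem_ker, Algebra.ofId_apply, IsScalarTower.algebraMap_apply A L K,
        Ideal.algebraMap_residueField_eq_zero]
      rw [← hp] at ha; exact ha)
    (fun a ha => by
      show IsUnit (algebraMap A K a)
      rw [IsScalarTower.algebraMap_apply A L K]
      refine Ne.isUnit ?_
      rw [ne_eq, Ideal.algebraMap_residueField_eq_zero]
      exact fun h => ha (by rw [← hp]; exact h))
  letI : Algebra p.ResidueField K := ψ.toRingHom.toAlgebra
  haveI : IsScalarTower A p.ResidueField K := .of_algebraMap_eq fun a => (ψ.commutes a).symm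
  exact (Module.finrank_baseChange (R := K) (S := p.ResidueField)
    (M' := p.ResidueField ⊗[A] Basic.Om k A)).symm.trans
    (TensorProduct.AlgebraTensorModule.cancelBaseChange A p.ResidueField K K (Basic.Om k A)).finrank_eq

end Groth.Agent.H2.CB.Deriv
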