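import Mathlib.RingTheory.AdicCompletion.Algebra
import Mathlib.RingTheory.AdicCompletion.RingHom
import Mathlib.RingTheory.AdicCompletion.Topology
import Mathlib.RingTheory.Ideal.Quotient.Operations

/-!
# Recognizing a completion
-/

set_option autoImplicit false

universe u v

namespace Groth.Agent.H2.CB.Equiv

variable {R : Type u} {B : Type v} [CommRing R] [CommRing B] (I : Ideal R) (f : R →+* B)

/-- A complete ring with the same truncations is the completion. -/
theorem exists_equiv [IsAdicComplete (I.map f) B]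
    (hinj : ∀ n z, f z ∈ (I.map f) ^ n → z ∈ I ^ n)
    (hsurj : ∀ n b, ∃ z, b - f z ∈ (I.map f) ^ n) :
    ∃ e : AdicCompletion I R ≃+* B, ∀ z, e (AdicCompletion.of I R z) = f z := by
  let K := I.map f
  have hle : ∀ n, I ^ n ≤ (K ^ n).comap f := fun n => by
    rw [← Ideal.map_le_iff_le_comap, Ideal.map_pow]
  let q : ∀ n, R ⧸ I ^ n →+* B ⧸ K ^ n := fun n => Ideal.quotientMap (K ^ n) f (hle n)
  have hqi : ∀ n, Function.Injective (q n) := fun n =>
    Ideal.quotientMap_injective' fun z hz => hinj n z hz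
  have hqs : ∀ n, Function.Surjective (q n) := fun n y => by
    obtain ⟨b, rfl⟩ := Ideal.Quotient.mk_surjective y
    obtain ⟨z, hz⟩ := hsurj n b
    exact ⟨Ideal.Quotient.mk _ z, by rw [Ideal.quotientMap_mk]; exact (Ideal.Quotient.eq.2 hz).symm⟩
  have hq : ∀ {m n : ℕ} (hmn : m ≤ n) (y : R ⧸ I ^ n),
      q m (Ideal.Quotient.factorPow I hmn y) = Ideal.Quotient.factorPow K hmn (q n y) := by
    intro m n hmn y
    obtain ⟨z, rfl⟩ := Ideal.Quotient.mk_surjective y
    simp only [q, Ideal.Quotient.factor_mk, Ideal.quotientMap_mk]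
  let g : ∀ n, AdicCompletion I R →+* B ⧸ K ^ n := fun n =>
    (q n).comp (AdicCompletion.evalₐ I n : AdicCompletion I R →+* _)
  have hg : ∀ {m n : ℕ} (hmn : m ≤ n), (Ideal.Quotient.factorPow K hmn).comp (g n) = g m := by
    intro m n hmn
    ext x
    induction x using AdicCompletion.induction_on with | _ a => ?_
    simp only [g, RingHom.comp_apply, RingHom.coe_coe, ← hq hmn, AdicCompletion.evalₐ_mk,
      Ideal.Quotient.factor_mk]
    congr 1
    exact AdicCompletion.Ideal.mk_eq_mk _ hmn a
  let toB := IsAdicComplete.liftRingHom K g hg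
  have hto : ∀ n x, Ideal.Quotient.mk (K ^ n) (toB x) = q n (AdicCompletion.evalₐ I n x) :=
    fun n x => IsAdicComplete.mk_liftRingHom K g hg n x
  have heq : ∀ a b : B, (∀ n, Ideal.Quotient.mk (K ^ n) a = Ideal.Quotient.mk (K ^ n) b) → a = b := by
    intro a b h
    rw [IsHausdorff.eq_iff_smodEq (I := K)]
    intro n
    rw [SModEq.sub_mem, smul_eq_mul, Ideal.mul_top]
    exact Ideal.Quotient.eq.1 (h n)
  have hbij : Function.Bijective toB := by
    refine ⟨fun x y hxy => AdicCompletion.ext_evalₐ fun n => hqi n ?_, fun b => ?_⟩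
    · rw [← hto, ← hto, hxy]
    · choose z hz using fun n => hqs n (Ideal.Quotient.mk _ b)
      have hc : ∀ {m n : ℕ} (hmn : m ≤ n), Ideal.Quotient.factorPow I hmn (z n) = z m :=
        fun {m n} hmn => hqi m (by rw [hq hmn, hz, hz, Ideal.Quotient.factor_mk])
      choose w hw using fun n => Ideal.Quotient.mk_surjective (z n)
      let x : AdicCompletion I R := AdicCompletion.mk I R ⟨w, fun {m n} hmn => by
        rw [SModEq.sub_mem, smul_eq_mul, Ideal.mul_top, ← Ideal.Quotient.eq, hw, ← hc hmn, ← hw,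
          Ideal.Quotient.factor_mk]⟩
      refine ⟨x, heq _ _ fun n => ?_⟩
      rw [hto, ← hz n]
      congr 1
      exact (AdicCompletion.evalₐ_mk (I := I) n _).trans (hw n)
  refine ⟨RingEquiv.ofBijective toB hbij, fun z => heq _ _ fun n => ?_⟩
  show Ideal.Quotient.mk (K ^ n) (toB _) = _
  rw [hto, AdicCompletion.evalₐ_of, Ideal.quotientMap_mk]

end Groth.Agent.H2.CB.Equiv
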