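import Groth.Agent.H2.CB.Base
import Groth.Agent.Lib.Cyc.SmoothReg
import Groth.Agent.Lib.Cohen.PowerSeriesBaseChange
import Mathlib.RingTheory.Localization.BaseChange
import Mathlib.RingTheory.Flat.FaithfullyFlat.Algebra
import Mathlib.RingTheory.Etale.Basic

/-!
# Regular points of the completed base change
-/

set_option autoImplicit false
set_option linter.style.haveILetI false
set_option linter.unusedSectionVars false

universe u

open IsLocalRing TensorProduct

namespace Groth.Agent.H2.CB.Regular

open Base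

/-- Localizations agree along a surjection which is an isomorphism near the prime. -/
theorem nonempty_equiv {B C : Type u} [CommRing B] [CommRing C] (π : B →+* C) (hπ : Function.Surjective π)
    (Q : Ideal C) [Q.IsPrime] (hker : ∀ x, π x = 0 → ∃ t ∉ Q.comap π, t * x = 0) :
    Nonempty (Localization.AtPrime (Q.comap π) ≃+* Localization.AtPrime Q) := by
  let ρ := Localization.localRingHom (Q.comap π) Q π rfl
  have hbij : Function.Bijective ρ := by
    refine ⟨(injective_iff_map_eq_zero ρ).2 fun z hz => ?_, fun w => ?_⟩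
    · obtain ⟨b, s, rfl⟩ := IsLocalization.exists_mk'_eq (Q.comap π).primeCompl z
      rw [Localization.localRingHom_mk', IsLocalization.mk'_eq_zero_iff] at hz
      obtain ⟨⟨v, hv⟩, hvb⟩ := hz
      obtain ⟨v', rfl⟩ := hπ v
      obtain ⟨t, ht, htx⟩ := hker (v' * b) (by rw [map_mul]; exact hvb)
      rw [IsLocalization.mk'_eq_zero_iff]
      exact ⟨⟨t * v', (Q.comap π).primeCompl.mul_mem ht hv⟩, by rw [mul_assoc]; exact htx⟩
    · obtain ⟨c, s, rfl⟩ := IsLocalization.exists_mk'_eq Q.primeCompl w
      obtain ⟨b, rfl⟩ := hπ c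
      obtain ⟨s', hs'⟩ := hπ s
      refine ⟨IsLocalization.mk' _ b (⟨s', fun hmem => s.2 (hs' ▸ hmem)⟩ : (Q.comap π).primeCompl), ?_⟩
      rw [Localization.localRingHom_mk']
      congr 1
      exact Subtype.ext hs'
  exact ⟨RingEquiv.ofBijective ρ hbij⟩

/-- Regularity passes along a surjection which is an isomorphism near the prime. -/
theorem of_surjective {B C : Type u} [CommRing B] [CommRing C] (π : B →+* C) (hπ : Function.Surjective π)
    (Q : Ideal C) [Q.IsPrime] (hker : ∀ x, π x = 0 → ∃ t ∉ Q.comap π, t * x = 0)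
    (h : IsRegularLocalRing (Localization.AtPrime Q)) :
    IsRegularLocalRing (Localization.AtPrime (Q.comap π)) := by
  haveI := h
  obtain ⟨e⟩ := nonempty_equiv π hπ Q hker
  exact IsRegularLocalRing.of_ringEquiv e.symm

variable (k k' : Type u) [Field k] [Field k'] [Algebra k k'] (A : Type u) [CommRing A] [Algebra k A]
  (d : ℕ) [Algebra (MvPowerSeries (Fin d) k) A]

/-- Points of the model over an étale locus are regular. -/
theorem of_etale (Q : Ideal (Mdl k k' A d)) [Q.IsPrime] (f : A)
    (hf : algebraMap A (Mdl k k' A d) f ∉ Q)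
    [Algebra.Etale (MvPowerSeries (Fin d) k) (Localization.Away f)] :
    IsRegularLocalRing (Localization.AtPrime Q) := by
  let P := MvPowerSeries (Fin d) k
  let P' := MvPowerSeries (Fin d) k'
  let Af := Localization.Away f
  let T := Af ⊗[P] P'
  haveI := H24.PowerSeries.isRegularLocalRing_fin k' d
  letI : Algebra (Mdl k k' A d) T :=
    (Algebra.TensorProduct.map (IsScalarTower.toAlgHom P A Af) (AlgHom.id P P')).toRingHom.toAlgebra
  haveI : IsScalarTower A (Mdl k k' A d) T := IsScalarTower.of_algebraMap_eq (R := A) (S := Mdl k k' A d) (A := T) fun a => by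
    rw [RingHom.algebraMap_toAlgebra]
    show algebraMap A Af a ⊗ₜ[P] (1 : P') = _
    exact (Algebra.TensorProduct.map_tmul (IsScalarTower.toAlgHom P A Af) (AlgHom.id P P') a 1).symm
  haveI hloc := IsLocalization.tensorProduct_tensorProduct P P' (Submonoid.powers f) Af (by
    ext x; simp [RingHom.algebraMap_toAlgebra])
  let M := Algebra.algebraMapSubmonoid (Mdl k k' A d) (Submonoid.powers f)
  haveI : IsLocalization M T := hloc
  have hdisj : Disjoint (M : Set (Mdl k k' A d)) Q := Set.disjoint_left.2 (by
    rintro _ ⟨_, ⟨j, rfl⟩, rfl⟩ hmem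
    rw [SetLike.mem_coe, map_pow] at hmem
    exact hf (Ideal.IsPrime.mem_of_pow_mem ‹_› j hmem))
  let Q' := Q.map (algebraMap (Mdl k k' A d) T)
  haveI : Q'.IsPrime := IsLocalization.isPrime_of_isPrime_disjoint M T Q ‹_› hdisj
  have hQ' : Q'.comap (algebraMap (Mdl k k' A d) T) = Q :=
    IsLocalization.under_map_of_isPrime_disjoint M T ‹_› hdisj
  let c : (P' ⊗[P] Af) ≃+* T := (Algebra.TensorProduct.comm P P' Af).toRingEquiv
  haveI : IsRegularRing (P' ⊗[P] Af) :=
    haveI : IsNoetherianRing (P' ⊗[P] Af) := Algebra.FiniteType.isNoetherianRing P' _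
    isRegularRing_iff.2 fun q _ => Lib.Cyc.SmoothReg.isRegularLocalRing_of_etale (P := P') q
  haveI : IsRegularRing T := IsRegularRing.of_ringEquiv c
  haveI : IsRegularLocalRing (Localization.AtPrime Q') := isRegularRing_iff.1 ‹IsRegularRing T› Q'
  haveI := IsLocalization.isLocalization_isLocalization_atPrime_isLocalization M (Localization.AtPrime Q') Q'
  haveI : IsLocalization Q.primeCompl (Localization.AtPrime Q') := by
    have h' : IsLocalization (Q'.comap (algebraMap (Mdl k k' A d) T)).primeCompl
        (Localization.AtPrime Q') := inferInstance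
    have e : (Q'.comap (algebraMap (Mdl k k' A d) T)).primeCompl = Q.primeCompl := by simp only [hQ']
    rwa [e] at h'
  exact IsRegularLocalRing.of_ringEquiv (R := Localization.AtPrime Q')
    (IsLocalization.algEquiv Q.primeCompl (Localization.AtPrime Q') (Localization.AtPrime Q)).toRingEquiv

theorem flat_ps : Module.Flat (MvPowerSeries (Fin d) k) (MvPowerSeries (Fin d) k') :=
  Lib.Cohen.PowerSeriesBaseChange.flat k k' (Fin d)

theorem flat : Module.Flat A (Mdl k k' A d) :=
  haveI := flat_ps k k' d
  inferInstance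

theorem faithfullyFlat : Module.FaithfullyFlat A (Mdl k k' A d) := by
  haveI := flat_ps k k' d
  haveI : IsLocalHom (algebraMap (MvPowerSeries (Fin d) k) (MvPowerSeries (Fin d) k')) := ⟨fun f hf => by
    rw [MvPowerSeries.isUnit_iff_constantCoeff] at hf ⊢
    rw [MvPowerSeries.algebraMap_apply''] at hf
    rw [← MvPowerSeries.coeff_zero_eq_constantCoeff_apply] at hf ⊢
    rw [MvPowerSeries.coeff_map] at hf
    exact isUnit_of_map_unit (algebraMap k k') _ (by simpa using hf)⟩
  haveI : Module.FaithfullyFlat (MvPowerSeries (Fin d) k) (MvPowerSeries (Fin d) k') :=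
    Module.FaithfullyFlat.of_flat_of_isLocalHom
  infer_instance

theorem exists_prime_over (p : Ideal A) [p.IsPrime] :
    ∃ Q : Ideal (Mdl k k' A d), Q.IsPrime ∧ Q.comap (algebraMap A (Mdl k k' A d)) = p := by
  haveI := faithfullyFlat k k' A d
  obtain ⟨Q, hQ⟩ := PrimeSpectrum.comap_surjective_of_faithfullyFlat (A := A) (B := Mdl k k' A d) ⟨p, ‹_›⟩
  exact ⟨Q.asIdeal, Q.2, congrArg PrimeSpectrum.asIdeal hQ⟩

end Groth.Agent.H2.CB.Regular
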