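import Groth.Agent.H2.CB.Regular
import Groth.Agent.Lib.Henselian.Finite
import Mathlib.RingTheory.AdicCompletion.Topology
import Mathlib.RingTheory.Ideal.KrullsHeightTheorem

/-!
# Local factors of finite algebras over complete local rings
-/

set_option autoImplicit false
set_option linter.style.haveILetI false
set_option linter.unusedSectionVars false

universe u

open IsLocalRing

namespace Groth.Agent.H2.CB.Semilocal

/-- Every local factor of a finite algebra over a complete Noetherian local ring is a quotient, finite and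
complete. -/
theorem local_factor (P : Type u) [CommRing P] [IsLocalRing P] [IsNoetherianRing P]
    [IsAdicComplete (maximalIdeal P) P] (B : Type u) [CommRing B] [Algebra P B] [Module.Finite P B]
    (M : Ideal B) [M.IsMaximal] :
    Function.Surjective (algebraMap B (Localization.AtPrime M)) ∧
      Module.Finite P (Localization.AtPrime M) ∧
      IsAdicComplete (maximalIdeal (Localization.AtPrime M)) (Localization.AtPrime M) := by
  classical
  haveI : HenselianLocalRing P := Lib.Henselian.LocalRing.henselianLocalRing_of_henselianRing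
  have hbij := Lib.Henselian.Finite.toPiLocalization_bijective (A := P) (B := B)
  have hs : Function.Surjective (algebraMap B (Localization.AtPrime M)) := fun z => by
    obtain ⟨b, hb⟩ := hbij.2 (Function.update 0 (⟨M, ‹_›⟩ : MaximalSpectrum B) z)
    refine ⟨b, ?_⟩
    have := congrFun hb ⟨M, ‹_›⟩
    rwa [Function.update_self] at this
  haveI hfin : Module.Finite P (Localization.AtPrime M) :=
    Module.Finite.of_surjective (IsScalarTower.toAlgHom P B (Localization.AtPrime M)).toLinearMap hs
  refine ⟨hs, hfin, ?_⟩
  haveI : IsNoetherianRing (Localization.AtPrime M) := IsNoetherianRing.of_finite P _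
  let J := (maximalIdeal P).map (algebraMap P (Localization.AtPrime M))
  haveI : IsAdicComplete (maximalIdeal P) (Localization.AtPrime M) :=
    Lib.Adic.Complete.isAdicComplete_of_finite
  haveI : IsAdicComplete J (Localization.AtPrime M) := (IsAdicComplete.map_algebraMap_iff _ _).2 ‹_›
  obtain ⟨N, hN⟩ : ∃ N, maximalIdeal (Localization.AtPrime M) ^ N ≤ J := by
    refine Ideal.exists_pow_le_of_le_radical_of_fg ?_ (IsNoetherian.noetherian _)
    rw [Ideal.radical_eq_sInf]
    refine le_sInf fun Q hQ => ?_
    haveI := hQ.2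
    haveI : (Q.comap (algebraMap P (Localization.AtPrime M))).IsMaximal := by
      rw [← (IsLocalRing.maximalIdeal.isMaximal P).eq_of_le (Ideal.IsPrime.ne_top inferInstance)
        (Ideal.map_le_iff_le_comap.1 hQ.1)]
      exact IsLocalRing.maximalIdeal.isMaximal P
    exact (IsLocalRing.eq_maximalIdeal
      (Ideal.isMaximal_of_isIntegral_of_isMaximal_comap (R := P) Q inferInstance)).ge
  exact Lib.Adic.Transfer.isAdicComplete_of_le (I := J) (N := N)
    (Lib.Henselian.Finite.map_maximalIdeal_le _) hN

section Pair

variable {A P B : Type u} [CommRing A] [IsLocalRing A] [IsNoetherianRing A] [CommRing P] [IsLocalRing P]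
  [IsNoetherianRing P] [CommRing B] [Algebra A B] [Algebra P B] [Module.Finite P B] [Module.Flat A B]
  (M : Ideal B) [M.IsMaximal] (hle : (maximalIdeal A).map (algebraMap A B) ≤ M)

include hle

theorem faithfullyFlat : Module.FaithfullyFlat A (Localization.AtPrime M) := by
  haveI : Module.Flat A (Localization.AtPrime M) := Module.Flat.trans A B _
  haveI : IsLocalHom (algebraMap A (Localization.AtPrime M)) := ⟨fun a ha => by
    by_contra h
    rw [IsScalarTower.algebraMap_apply A B, IsLocalization.AtPrime.isUnit_to_map_iff _ M] at ha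
    exact ha (hle (Ideal.mem_map_of_mem _ ((IsLocalRing.mem_maximalIdeal a).2 h)))⟩
  exact Module.FaithfullyFlat.of_flat_of_isLocalHom

theorem ringKrullDim_eq (hJ : (maximalIdeal P).map (algebraMap P B) ≤ (maximalIdeal A).map (algebraMap A B)) :
    ringKrullDim (Localization.AtPrime M) = ringKrullDim A := by
  haveI : IsNoetherianRing B := IsNoetherianRing.of_finite P B
  haveI : M.LiesOver (maximalIdeal A) :=
    ⟨(IsLocalRing.maximalIdeal.isMaximal A).eq_of_le (Ideal.IsPrime.ne_top inferInstance)
      (Ideal.map_le_iff_le_comap.1 hle)⟩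
  let J := (maximalIdeal A).map (algebraMap A B)
  haveI : IsArtinianRing (B ⧸ J) :=
    haveI := Lib.Henselian.Finite.isArtinianRing_quotient (A := P) (B := B)
    Function.Surjective.isArtinianRing (f := Ideal.Quotient.factor hJ) (Ideal.Quotient.factor_surjective hJ)
  haveI : (M.map (Ideal.Quotient.mk J)).IsPrime :=
    Ideal.map_isPrime_of_surjective Ideal.Quotient.mk_surjective (by rw [Ideal.mk_ker]; exact hle)
  have h0 : (M.map (Ideal.Quotient.mk J)).height = 0 := by
    have := (Ideal.height_le_ringKrullDim_of_isPrime (I := M.map (Ideal.Quotient.mk J))).trans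
      (Ring.krullDimLE_iff.1 (inferInstance : Ring.KrullDimLE 0 _))
    exact le_antisymm (WithBot.coe_le_coe.1 (by simpa using this)) zero_le
  rw [IsLocalization.AtPrime.ringKrullDim_eq_height M, ← IsLocalRing.maximalIdeal_height_eq_ringKrullDim,
    Ideal.height_eq_height_add_of_liesOver_of_hasGoingDown (maximalIdeal A) M, h0, add_zero]

omit [IsLocalRing A] [IsNoetherianRing A] [Algebra A B] [Module.Flat A B] [IsNoetherianRing P] hle in
theorem finite_residue {K C : Type u} [CommRing K] [CommRing C] (φ : B →+* C) (hφ : Function.Surjective φ)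
    (hMφ : M ≤ RingHom.ker φ) (ι : K →+* P) (π : P →+* K) (hπ : ∀ f, f - ι (π f) ∈ maximalIdeal P) :
    (φ.comp ((algebraMap P B).comp ι)).Finite := by
  have hg : (φ.comp (algebraMap P B)).Finite :=
    (RingHom.Finite.of_surjective _ hφ).comp (RingHom.finite_algebraMap.2 ‹_›)
  have heq : (φ.comp ((algebraMap P B).comp ι)).comp π = φ.comp (algebraMap P B) := by
    refine RingHom.ext fun f => (sub_eq_zero.1 ?_).symm
    have := hMφ (Lib.Henselian.Finite.map_maximalIdeal_le (A := P) M (Ideal.mem_map_of_mem _ (hπ f)))
    simpa using this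
  exact RingHom.Finite.of_comp_finite (heq.symm ▸ hg)

end Pair

open Base TensorProduct

variable (k k' : Type u) [Field k] [Field k'] [Algebra k k'] (A : Type u) [CommRing A] [Algebra k A]
  (d : ℕ) [Algebra (MvPowerSeries (Fin d) k) A] [IsScalarTower k (MvPowerSeries (Fin d) k) A]
  [IsLocalRing A] [IsNoetherianRing A]
  [Module.Finite (MvPowerSeries (Fin d) k) A] [IsLocalHom (algebraMap (MvPowerSeries (Fin d) k) A)]

theorem map_le_map : letI : Algebra (MvPowerSeries (Fin d) k') (Mdl k k' A d) := Algebra.TensorProduct.rightAlgebra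
    (maximalIdeal (MvPowerSeries (Fin d) k')).map (algebraMap (MvPowerSeries (Fin d) k') (Mdl k k' A d)) ≤
      (maximalIdeal A).map (algebraMap A (Mdl k k' A d)) := by
  letI : Algebra (MvPowerSeries (Fin d) k') (Mdl k k' A d) := Algebra.TensorProduct.rightAlgebra
  rw [H24.PowerSeries.maximalIdeal_eq k' (Fin d), Ideal.map_span, Ideal.span_le]
  rintro _ ⟨_, ⟨i, rfl⟩, rfl⟩
  show (1 : A) ⊗ₜ[MvPowerSeries (Fin d) k] MvPowerSeries.X i ∈ (maximalIdeal A).map (algebraMap A (Mdl k k' A d))
  rw [← X_tmul]
  have hloc : (maximalIdeal (MvPowerSeries (Fin d) k)).map (algebraMap (MvPowerSeries (Fin d) k) A) ≤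
      maximalIdeal A :=
    ((IsLocalRing.local_hom_TFAE (algebraMap (MvPowerSeries (Fin d) k) A)).out 0 2).1 ‹_›
  exact Ideal.mem_map_of_mem _ (hloc (Ideal.mem_map_of_mem _ (H24.PowerSeries.X_mem k i)))

theorem map_le (M : Ideal (Mdl k k' A d)) [M.IsMaximal] :
    (maximalIdeal A).map (algebraMap A (Mdl k k' A d)) ≤ M := by
  haveI := Base.isAdicComplete k k' A d
  rw [← map_idl]
  exact (IsAdicComplete.le_jacobson_bot _).trans (sInf_le ⟨bot_le, ‹_›⟩)

end Groth.Agent.H2.CB.Semilocal
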