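import Groth.Agent.H2.CB.Compare
import Groth.Agent.H2.CB.Deriv
import Groth.Agent.H2.Omega.Reduce
import Groth.Agent.H2.Omega.GeomFree
import Groth.Agent.Lib.Henselian.Unibranch
import Groth.Agent.Lib.Regular.Descent
import Mathlib.FieldTheory.Perfect
import Mathlib.RingTheory.Henselian

/-!
# Regularity after completed base change and freeness of completed differentials
-/

set_option autoImplicit false
set_option linter.style.haveILetI false
set_option linter.unusedSectionVars false

universe u

open IsLocalRing TensorProduct Groth.Agent.H2.Rigid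

namespace Groth.Agent.H2.CB.Tfae

open Base Groth.Agent.H2.Omega

/-- A regular algebra over a perfect field is geometrically regular. -/
theorem geomReg_of_perfect {k : Type u} [Field k] [PerfectField k] {R : Type u} [CommRing R] [Algebra k R]
    [IsNoetherianRing R] [hR : IsRegularRing R] : CAlg.IsGeometricallyRegular k R := by
  rw [GeomRegAlg.geometricallyRegular_iff_piReg]
  intro E _ _ hf hpi
  haveI := hf
  haveI := hpi
  have hsurj : Function.Surjective (algebraMap k E) := IsPurelyInseparable.surjective_algebraMap_of_isSeparable k E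
  let e : k ≃ₐ[k] E := AlgEquiv.ofBijective (Algebra.ofId k E) ⟨(algebraMap k E).injective, hsurj⟩
  exact IsRegularRing.of_ringEquiv (R := R)
    ((Algebra.TensorProduct.lid k R).symm.trans (Algebra.TensorProduct.congr e AlgEquiv.refl)).toRingEquiv

variable {k : Type u} [Field k] {A : Type u} [CommRing A] [IsLocalRing A] [IsNoetherianRing A] [Algebra k A]
  [IsAdicComplete (maximalIdeal A) A] [Module.Finite k (ResidueField A)] (p : Ideal A) [p.IsPrime]

/-- Regularity at a point of the completed base change to a perfect field bounds the rank. -/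
theorem rank_le_of_regular (k' : Type u) [Field k'] [Algebra k k'] [PerfectField k'] (d : ℕ)
    [Algebra (MvPowerSeries (Fin d) k) A] [IsScalarTower k (MvPowerSeries (Fin d) k) A]
    [Module.Finite (MvPowerSeries (Fin d) k) A] [IsLocalHom (algebraMap (MvPowerSeries (Fin d) k) A)]
    (n : ℕ) (hn₁ : ∀ q ∈ minimalPrimes A, q ≤ p → ringKrullDim (A ⧸ q) ≤ n)
    (Q : Ideal (Mdl k k' A d)) [Q.IsPrime] (hQ : Q.comap (algebraMap A (Mdl k k' A d)) = p)
    (hreg : IsRegularLocalRing (Localization.AtPrime Q)) :
    IsRegularLocalRing (Localization.AtPrime p) ∧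
      Module.finrank p.ResidueField (p.ResidueField ⊗[A] Omega.Basic.Om k A) ≤ n := by
  classical
  let P := MvPowerSeries (Fin d) k
  let P' := MvPowerSeries (Fin d) k'
  let B := Mdl k k' A d
  haveI := hreg
  haveI : IsNoetherianRing B := Base.isNoetherianRing k k' A d
  constructor
  · haveI : Q.LiesOver p := ⟨hQ.symm⟩
    letI := Localization.AtPrime.algebraOfLiesOver p Q
    haveI : Module.Flat A B := Regular.flat k k' A d
    haveI : Module.Flat A (Localization.AtPrime Q) :=
      haveI : Module.Flat B (Localization.AtPrime Q) := IsLocalization.flat _ Q.primeCompl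
      Module.Flat.trans A B _
    haveI : Module.Flat (Localization.AtPrime p) (Localization.AtPrime Q) :=
      (Module.flat_iff_of_isLocalization (Localization.AtPrime p) p.primeCompl _).mpr ‹_›
    haveI : IsLocalHom (algebraMap (Localization.AtPrime p) (Localization.AtPrime Q)) := by
      rw [RingHom.algebraMap_toAlgebra]
      exact Localization.isLocalHom_localRingHom p Q (algebraMap A B) Ideal.LiesOver.over
    haveI : IsNoetherianRing (Localization.AtPrime p) := IsLocalization.isNoetherianRing p.primeCompl _ inferInstance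
    exact Lib.Regular.Descent.isRegularLocalRing_of_flat (Localization.AtPrime Q)
  -- the component through `Q`
  obtain ⟨qB, hqB, hqBQ⟩ := Ideal.exists_minimalPrimes_le (I := (⊥ : Ideal B)) (J := Q) bot_le
  haveI : qB.IsPrime := hqB.1.1
  haveI := Lib.Regular.Quotient.isDomain (Localization.AtPrime Q)
  letI : CommRing (Mdl k k' A d ⧸ qB) := inferInstance
  let L := B ⧸ qB
  haveI : IsDomain L := Ideal.Quotient.isDomain qB
  letI algP'B : Algebra P' B := Algebra.TensorProduct.rightAlgebra
  haveI := Base.finite k k' A d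
  haveI : Module.Finite P' L := Module.Finite.trans B _
  haveI : IsAdicComplete (maximalIdeal P') P' := H24.PowerSeries.isAdicComplete k' (Fin d)
  haveI : HenselianLocalRing P' :=
    { is_henselian := fun f hf a₀ h₁ h₂ =>
        HenselianRing.is_henselian (I := maximalIdeal P') f hf a₀ h₁ (h₂.map (Ideal.Quotient.mk _)) }
  haveI : Algebra.IsIntegral P' L := Algebra.IsIntegral.of_finite _ _
  haveI : IsLocalRing L := Lib.Henselian.Unibranch.isLocalRing_of_isDomain P' L
  haveI := H24.PowerSeries.isRegularLocalRing_fin k' d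
  let J : Ideal L := (maximalIdeal P').map (algebraMap P' L)
  have hrad : maximalIdeal L ≤ J.radical := by
    rw [Ideal.radical_eq_sInf]
    refine le_sInf fun P₀ hP₀ => ?_
    haveI := hP₀.2
    have hle : maximalIdeal P' ≤ P₀.comap (algebraMap P' L) := Ideal.map_le_iff_le_comap.1 hP₀.1
    have h1 : (P₀.comap (algebraMap P' L)).IsMaximal := by
      have := (IsLocalRing.maximalIdeal.isMaximal P').eq_of_le (Ideal.IsPrime.ne_top inferInstance) hle
      rw [← this]; exact IsLocalRing.maximalIdeal.isMaximal P'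
    exact (IsLocalRing.eq_maximalIdeal (Ideal.isMaximal_of_isIntegral_of_isMaximal_comap P₀ h1)).ge
  have hJle : J ≤ maximalIdeal L := by
    refine Ideal.map_le_iff_le_comap.2 ?_
    haveI : ((maximalIdeal L).comap (algebraMap P' L)).IsMaximal :=
      Ideal.isMaximal_comap_of_isIntegral_of_isMaximal (maximalIdeal L)
    exact (IsLocalRing.eq_maximalIdeal this).ge
  obtain ⟨N, hN⟩ := Ideal.exists_pow_le_of_le_radical_of_fg hrad (IsNoetherian.noetherian _)
  haveI : IsAdicComplete (maximalIdeal P') L := Lib.Adic.Complete.isAdicComplete_of_finite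
  haveI : IsAdicComplete J L := (IsAdicComplete.map_algebraMap_iff _ _).2 ‹_›
  haveI : IsAdicComplete (maximalIdeal L) L := Lib.Adic.Transfer.isAdicComplete_of_le hJle hN
  letI algk'L : Algebra k' L := ((algebraMap P' L).comp (algebraMap k' P')).toAlgebra
  haveI : IsScalarTower k' P' L := .of_algebraMap_eq' rfl
  haveI : Module.Finite k' (ResidueField L) := by
    haveI : IsLocalHom (algebraMap P' L) :=
      ((IsLocalRing.local_hom_TFAE (algebraMap P' L)).out 0 2).2 hJle
    haveI : Module.Finite k' (ResidueField P') :=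
      Module.Finite.of_surjective (Algebra.linearMap k' _) (H24.PowerSeries.residue_surjective k' (Fin d))
    haveI : Module.Finite (ResidueField P') (ResidueField L) := inferInstance
    exact Module.Finite.trans (ResidueField P') _
  let ρ : B →+* L := Ideal.Quotient.mk qB
  let PL : Ideal L := Q.map ρ
  haveI : PL.IsPrime := Ideal.map_isPrime_of_surjective Ideal.Quotient.mk_surjective (by
    rw [show RingHom.ker ρ = qB from Ideal.mk_ker]; exact hqBQ)
  have hPLc : PL.comap ρ = Q := by
    rw [Ideal.comap_map_of_surjective _ Ideal.Quotient.mk_surjective, ← RingHom.ker_eq_comap_bot,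
      show RingHom.ker ρ = qB from Ideal.mk_ker, sup_eq_left.2 hqBQ]
  have hker : ∀ b, ρ b = 0 → ∃ t, ρ t ∉ PL ∧ t * b = 0 := by
    intro b hb
    have hb' : b ∈ qB := Ideal.Quotient.eq_zero_iff_mem.1 hb
    let R := Localization.AtPrime Q
    have hdisj : Disjoint (Q.primeCompl : Set B) qB := Set.disjoint_left.2 fun x hx hxq => hx (hqBQ hxq)
    have hc : (qB.map (algebraMap B R)).comap (algebraMap B R) = qB :=
      IsLocalization.under_map_of_isPrime_disjoint Q.primeCompl R ‹_› hdisj
    have hle : (⊥ : Ideal R).comap (algebraMap B R) ≤ qB :=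
      (Ideal.comap_mono (bot_le (a := qB.map (algebraMap B R)))).trans hc.le
    haveI := Ideal.isPrime_bot (α := R)
    have h0 : algebraMap B R b = 0 := (hqB.2 ⟨Ideal.IsPrime.comap _, bot_le⟩ hle) hb'
    obtain ⟨⟨t, ht⟩, htb⟩ := (IsLocalization.map_eq_zero_iff Q.primeCompl R b).1 h0
    exact ⟨t, fun h => ht (hPLc ▸ h : t ∈ Q), htb⟩
  letI algAL : Algebra A L := (ρ.comp (algebraMap A B)).toAlgebra
  have hlocal : ∀ a ∈ maximalIdeal A, algebraMap A L a ∈ maximalIdeal L := by
    intro a ha
    haveI h1 : IsAdicComplete ((idl k k' A).map (toMdl k k' A d).toRingHom) B := Base.isAdicComplete k k' A d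
    have h2 : algebraMap A B a ∈ (⊥ : Ideal B).jacobson :=
      (IsAdicComplete.le_jacobson_bot ((idl k k' A).map (toMdl k k' A d).toRingHom)) (by rw [map_idl]; exact Ideal.mem_map_of_mem _ ha)
    haveI hMmax : ((maximalIdeal L).comap ρ).IsMaximal :=
      Ideal.comap_isMaximal_of_surjective _ Ideal.Quotient.mk_surjective
    exact (Ideal.mem_sInf.1 h2) ⟨bot_le, hMmax⟩
  have hrankA := Deriv.finrank_le k k' A d (L := L) ρ Ideal.Quotient.mk_surjective
    (fun a => rfl) (fun c => rfl) hlocal PL p
    (by rw [RingHom.algebraMap_toAlgebra, ← Ideal.comap_comap, hPLc, hQ]) hker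
  -- geometric regularity of `L` at `PL`
  obtain ⟨eL⟩ := Regular.nonempty_equiv ρ Ideal.Quotient.mk_surjective PL (fun x hx => by
    obtain ⟨t, ht, htx⟩ := hker x hx
    exact ⟨t, ht, htx⟩)
  haveI : IsRegularLocalRing (Localization.AtPrime PL) := by
    haveI := IsRegularLocalRing.of_ringEquiv (R := Localization.AtPrime Q) (R' := Localization.AtPrime (PL.comap ρ))
      (Localization.localRingEquiv Q (PL.comap ρ) (RingEquiv.refl B) (by rw [hPLc]; exact Ideal.ext fun _ => Iff.rfl))
    exact IsRegularLocalRing.of_ringEquiv eL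
  haveI : IsNoetherianRing (Localization.AtPrime PL) := IsLocalization.isNoetherianRing PL.primeCompl _ inferInstance
  have hgr : CAlg.IsGeometricallyRegular k' (Localization.AtPrime PL) := geomReg_of_perfect
  obtain ⟨p', hp'⟩ := ExpChar.exists k'
  haveI := hp'
  haveI : PerfectRing k' p' := PerfectField.toPerfectRing p'
  have hfrob : (frobenius k' p').Finite :=
    RingHom.Finite.of_surjective _ (PerfectRing.bijective_frobenius (R := k') (p := p')).2
  obtain ⟨n', hn'⟩ := Unram.exists_dim (A := L)
  have hminL : (⊥ : Ideal L) ∈ minimalPrimes L := ⟨⟨Ideal.isPrime_bot, le_rfl⟩, fun y _ _ => bot_le⟩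
  have hdimbot : ringKrullDim (L ⧸ (⊥ : Ideal L)) = n' :=
    (ringKrullDim_eq_of_ringEquiv (RingEquiv.quotientBot L)).trans hn'
  obtain ⟨hfree, hrankL⟩ := GeomFree.free_of_geomReg p' hfrob PL hgr ⊥ hminL bot_le hdimbot
  haveI := Omega.Basic.finite k' L
  haveI := hfree
  have hle' : Module.finrank PL.ResidueField (PL.ResidueField ⊗[L] Omega.Basic.Om k' L) ≤ n' := by
    let b := Module.finBasisOfFinrankEq (Localization.AtPrime PL) _ hrankL
    exact (Tools.exists_span_iff (M := Omega.Basic.Om k' L) PL n').1 ⟨b, b.span_eq⟩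
  refine hrankA.trans (hle'.trans ?_)
  -- dimension of the component
  let q0 : Ideal A := qB.comap (algebraMap A B)
  obtain ⟨q, hqm, hqle⟩ := Ideal.exists_minimalPrimes_le (I := (⊥ : Ideal A)) (J := q0) bot_le
  haveI : q.IsPrime := hqm.1.1
  have hq0p : q0 ≤ p := hQ ▸ Ideal.comap_mono hqBQ
  obtain ⟨_, hc0, hf0⟩ := Omega.Reduce.quotient_props (k := k) (A := A) q0 (Ideal.IsPrime.ne_top inferInstance)
  obtain ⟨n0, hn0⟩ := Unram.exists_dim (A := A ⧸ q0)
  have hn0n : n0 ≤ n := by
    have h1 : ringKrullDim (A ⧸ q0) ≤ ringKrullDim (A ⧸ q) :=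
      ringKrullDim_le_of_surjective (Ideal.Quotient.factor hqle) (Ideal.Quotient.factor_surjective hqle)
    rw [hn0] at h1
    exact_mod_cast h1.trans (hn₁ q hqm (hqle.trans hq0p))
  obtain ⟨x, hx, hxrad⟩ := Lib.Cohen.PSRegular.exists_sop (A ⧸ q0) hn0
  obtain ⟨g, hg, hgfin⟩ := Tools.exists_finite_algHom (k := k) x hx hxrad
  have hker' : RingHom.ker (Compare.proj k k' A d q0) ≤ RingHom.ker ρ := by
    rw [Compare.ker_proj, show RingHom.ker ρ = qB from Ideal.mk_ker]
    exact Ideal.map_comap_le
  have hdimL : ringKrullDim L ≤ ringKrullDim (Mdl k k' (A ⧸ q0) d) :=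
    ringKrullDim_le_of_surjective
      ((Compare.proj k k' A d q0).liftOfSurjective (Compare.proj_surjective k k' A d q0) ⟨ρ, hker'⟩)
      (fun l => by
        obtain ⟨b, rfl⟩ := Ideal.Quotient.mk_surjective l
        exact ⟨Compare.proj k k' A d q0 b, RingHom.liftOfRightInverse_comp_apply _ _ _ _ _⟩)
  haveI : Module.Finite P (A ⧸ q0) := Module.Finite.trans A _
  haveI : IsLocalHom (Ideal.Quotient.mk q0) := IsLocalHom.of_surjective _ Ideal.Quotient.mk_surjective
  haveI : IsLocalHom (algebraMap P (A ⧸ q0)) := RingHom.isLocalHom_comp (Ideal.Quotient.mk q0) (algebraMap P A)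
  have hdimM : ringKrullDim (Mdl k k' (A ⧸ q0) d) ≤ n0 := by
    letI : Algebra (MvPowerSeries (Fin n0) k) (A ⧸ q0) := g.toRingHom.toAlgebra
    haveI : IsScalarTower k (MvPowerSeries (Fin n0) k) (A ⧸ q0) := .of_algebraMap_eq fun c => (g.commutes c).symm
    haveI : Module.Finite (MvPowerSeries (Fin n0) k) (A ⧸ q0) := hgfin
    haveI : IsLocalHom (algebraMap (MvPowerSeries (Fin n0) k) (A ⧸ q0)) :=
      Unram.isLocalHom fun i => by rw [show algebraMap _ (A ⧸ q0) _ = g _ from rfl, hg]; exact hx i
    exact Compare.ringKrullDim_le k k' (A ⧸ q0) d n0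
  have h := hn'.symm.trans_le (hdimL.trans hdimM)
  exact le_trans (by exact_mod_cast h) hn0n

/-- The rank condition gives regularity at all points of all completed base changes, and geometric regularity. -/
theorem regular_of_rank (hp : p ≠ maximalIdeal A) (n : ℕ)
    (hn₁ : ∀ q ∈ minimalPrimes A, q ≤ p → ringKrullDim (A ⧸ q) ≤ n)
    (hn₂ : ∃ q ∈ minimalPrimes A, q ≤ p ∧ ringKrullDim (A ⧸ q) = n)
    (hrank : Module.finrank p.ResidueField (p.ResidueField ⊗[A] Omega.Basic.Om k A) ≤ n) (d : ℕ)
    [Algebra (MvPowerSeries (Fin d) k) A] [IsScalarTower k (MvPowerSeries (Fin d) k) A]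
    [Module.Finite (MvPowerSeries (Fin d) k) A] [IsLocalHom (algebraMap (MvPowerSeries (Fin d) k) A)] :
    (∀ (k' : Type u) [Field k'] [Algebra k k'] (Q : Ideal (Mdl k k' A d)) [Q.IsPrime],
      Q.comap (algebraMap A (Mdl k k' A d)) = p → IsRegularLocalRing (Localization.AtPrime Q)) ∧
      CAlg.IsGeometricallyRegular k (Localization.AtPrime p) := by
  classical
  let P := MvPowerSeries (Fin d) k
  let J := Omega.Reduce.J p
  obtain ⟨_, hcJ, hfJ⟩ := Omega.Reduce.quotient_props (k := k) (A := A) J
    (fun h => Ideal.IsPrime.ne_top ‹p.IsPrime› (top_le_iff.1 (h ▸ Omega.Reduce.J_le p)))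
  let C := A ⧸ J
  let π := Ideal.Quotient.mk J
  let pb : Ideal C := p.map π
  haveI : pb.IsPrime := Ideal.map_isPrime_of_surjective Ideal.Quotient.mk_surjective (by
    rw [Ideal.mk_ker]; exact Omega.Reduce.J_le p)
  have hpbc : pb.comap π = p := by
    rw [Ideal.comap_map_of_surjective _ Ideal.Quotient.mk_surjective, ← RingHom.ker_eq_comap_bot,
      Ideal.mk_ker, sup_eq_left.2 (Omega.Reduce.J_le p)]
  obtain ⟨hpbm, hdimC, qb, hqbm, hqbp, hqb⟩ := Omega.Reduce.exists_reduction p hp hn₁ hn₂ pb rfl
  have hrankC := (Omega.Reduce.finrank_quotient_le (k := k) p J (Omega.Reduce.J_le p) pb hpbc).trans hrank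
  obtain ⟨-, hgeom, algn, twn, hloc, hfin, het⟩ := Omega.Free.free_and_geomReg pb hpbm hdimC qb hqbm hqbp hqb hrankC
  refine ⟨fun k' _ _ Q _ hQ => ?_, ?_⟩
  · haveI : Module.Finite P C := Module.Finite.trans A _
    haveI : IsLocalHom π := IsLocalHom.of_surjective _ Ideal.Quotient.mk_surjective
    haveI : IsLocalHom (algebraMap P C) := RingHom.isLocalHom_comp π (algebraMap P A)
    have hJQ : ∀ x, Compare.proj k k' A d J x = 0 → ∃ t ∉ Q, t * x = 0 := by
      intro x hx
      have hx' : x ∈ J.map (algebraMap A (Mdl k k' A d)) := by rw [← Compare.ker_proj]; exact hx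
      induction hx' using Submodule.span_induction with
      | mem z hz =>
        obtain ⟨j, hj, rfl⟩ := hz
        obtain ⟨t, ht, htj⟩ := Omega.Reduce.exists_kill p j hj
        exact ⟨algebraMap A _ t, fun h => ht (hQ ▸ h : t ∈ p), by rw [← map_mul, htj, map_zero]⟩
      | zero => exact ⟨1, fun h => Ideal.IsPrime.ne_top ‹Q.IsPrime› ((Ideal.eq_top_iff_one Q).2 h), mul_zero 1⟩
      | add y z hy' hz' hy hz =>
        obtain ⟨t, ht, hty⟩ := hy (by
          show _ = (0 : Mdl k k' C d); rw [← RingHom.mem_ker, Compare.ker_proj]; exact hy')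
        obtain ⟨s, hs, hsz⟩ := hz (by
          show _ = (0 : Mdl k k' C d); rw [← RingHom.mem_ker, Compare.ker_proj]; exact hz')
        exact ⟨t * s, fun h => (Ideal.IsPrime.mem_or_mem ‹_› h).elim ht hs, by
          rw [mul_add, mul_right_comm t s y, hty, zero_mul, mul_assoc t s z, hsz, mul_zero, add_zero]⟩
      | smul r y hy' hy =>
        obtain ⟨t, ht, hty⟩ := hy (by
          show _ = (0 : Mdl k k' C d); rw [← RingHom.mem_ker, Compare.ker_proj]; exact hy')
        exact ⟨t, ht, by rw [smul_eq_mul, mul_left_comm, hty, mul_zero]⟩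
    let QC := Q.map (Compare.proj k k' A d J)
    have hkerQ : RingHom.ker (Compare.proj k k' A d J) ≤ Q := fun x hx => by
      obtain ⟨t, ht, htx⟩ := hJQ x hx
      exact (Ideal.IsPrime.mem_or_mem ‹_› (show t * x ∈ Q by rw [htx]; exact zero_mem _)).resolve_left ht
    haveI : QC.IsPrime := Ideal.map_isPrime_of_surjective (Compare.proj_surjective k k' A d J) hkerQ
    have hQC : QC.comap (Compare.proj k k' A d J) = Q := by
      rw [Ideal.comap_map_of_surjective _ (Compare.proj_surjective k k' A d J), ← RingHom.ker_eq_comap_bot,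
        sup_eq_left.2 hkerQ]
    letI := algn
    haveI := twn
    haveI := hfin
    haveI := hloc
    haveI := het
    haveI : IsNoetherianRing (MvPowerSeries (Fin n) k) :=
      haveI := H24.PowerSeries.isRegularLocalRing_fin k n
      inferInstance
    haveI : Algebra.FinitePresentation (MvPowerSeries (Fin n) k) C :=
      Algebra.FinitePresentation.of_finiteType.mp inferInstance
    obtain ⟨f, hf, hf'⟩ := Algebra.exists_etale_of_isEtaleAt (R := MvPowerSeries (Fin n) k) pb
    haveI := hf'
    have hfQ : algebraMap C (Mdl k k' C d) f ∉ QC := by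
      obtain ⟨a, rfl⟩ := Ideal.Quotient.mk_surjective f
      intro h
      rw [← Compare.proj_algebraMap] at h
      have h2 : algebraMap A (Mdl k k' A d) a ∈ Q := by rw [← hQC]; exact h
      exact hf (Ideal.mem_map_of_mem π (show a ∈ p by rw [← hQ]; exact h2))
    have hregC := Compare.regular_of_etale k k' C d n QC f hfQ
    haveI := Regular.of_surjective (Compare.proj k k' A d J) (Compare.proj_surjective k k' A d J) QC
      (fun x hx => by rw [hQC]; exact hJQ x hx) hregC
    exact IsRegularLocalRing.of_ringEquiv (R := Localization.AtPrime (QC.comap (Compare.proj k k' A d J)))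
      (Localization.localRingEquiv Q (QC.comap (Compare.proj k k' A d J)) (RingEquiv.refl _) (by rw [hQC]; exact Ideal.ext fun _ => Iff.rfl)).symm
  · let φ := Localization.localRingHom p pb π hpbc.symm
    have hφ : Function.Bijective φ := by
      refine ⟨(injective_iff_map_eq_zero φ).2 fun z hz => ?_, fun w => ?_⟩
      · obtain ⟨b, s, rfl⟩ := IsLocalization.exists_mk'_eq p.primeCompl z
        rw [Localization.localRingHom_mk', IsLocalization.mk'_eq_zero_iff] at hz
        obtain ⟨⟨v, hv⟩, hvb⟩ := hz
        obtain ⟨v', rfl⟩ := Ideal.Quotient.mk_surjective v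
        obtain ⟨t, ht, htx⟩ := Omega.Reduce.exists_kill p (v' * b) (Ideal.Quotient.eq_zero_iff_mem.1 (by
          rw [map_mul]; exact hvb))
        rw [IsLocalization.mk'_eq_zero_iff]
        exact ⟨⟨t * v', p.primeCompl.mul_mem ht (fun h => hv (Ideal.mem_map_of_mem π h))⟩,
          by rw [mul_assoc]; exact htx⟩
      · obtain ⟨c, s, rfl⟩ := IsLocalization.exists_mk'_eq pb.primeCompl w
        obtain ⟨b, rfl⟩ := Ideal.Quotient.mk_surjective c
        obtain ⟨s', hs'⟩ := Ideal.Quotient.mk_surjective (s : C)
        refine ⟨IsLocalization.mk' _ b (⟨s', fun hmem => s.2 (hs' ▸ Ideal.mem_map_of_mem π hmem)⟩ : p.primeCompl), ?_⟩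
        rw [Localization.localRingHom_mk']
        congr 1
        exact Subtype.ext hs'
    let φe : Localization.AtPrime p ≃ₐ[k] Localization.AtPrime pb :=
      AlgEquiv.ofRingEquiv (f := RingEquiv.ofBijective φ hφ) fun c => by
        show φ _ = _
        rw [IsScalarTower.algebraMap_apply k A (Localization.AtPrime p), Localization.localRingHom_to_map]
        rfl
    exact GeomRegHom.congr φe.symm hgeom

end Groth.Agent.H2.CB.Tfae
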